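/-
S4822, T1b2 (helper61): the centralizer of a Sylow `p`-subgroup normalises every component.
-/
import Cfsg.Agent.H508.KB.Defs
import Cfsg.Agent.H978.Alm.Nonab

set_option autoImplicit false

namespace Cfsg.Agent.H61.S4822

open Cfsg Subgroup
open Cfsg.Agent.Lib.MinNormalNonabelian Cfsg.Agent.H531.Red Cfsg.Agent.H531.LemX Cfsg.Agent.H978.Alm.Nonab

universe u

attribute [local instance] act

variable {p : ℕ} [Fact p.Prime] {G : Type u} [Group G] [Finite G] {N : Subgroup G} [N.Normal] {T : minSet N}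
  {A : Type u} [Group A] {π : ↥(normalizer (T.1 : Set G)) →* A}

omit [Finite G] in
/-- `p`-elements lie in normal subgroups of index prime to `p` -/
theorem mem_of_pow (hcop : ¬ p ∣ N.index) {x : G} {k : ℕ} (hx : x ^ p ^ k = 1) : x ∈ N := by
  have hp : p.Prime := Fact.out
  rw [← QuotientGroup.eq_one_iff, ← orderOf_eq_one_iff]
  have h1 : orderOf (x : G ⧸ N) ∣ p ^ k := by
    apply orderOf_dvd_of_pow_eq_one
    rw [← QuotientGroup.mk_pow, hx]
    rfl
  have h2 : orderOf (x : G ⧸ N) ∣ N.index := orderOf_dvd_natCard _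
  exact Nat.eq_one_of_dvd_coprimes (Nat.Coprime.pow_left k ((Nat.Prime.coprime_iff_not_dvd hp).2 hcop)) h1 h2

/-- `p` divides the order of every component -/
theorem exists_order (D : Dat N T π) (hdN : p ∣ Nat.card N) : ∃ s ∈ T.1, orderOf s = p := by
  have hp : p.Prime := Fact.out
  obtain ⟨y, hy⟩ := exists_prime_orderOf_dvd_card' p hdN
  have hy1 : (y : G) ≠ 1 := by
    intro h
    have h1 : y = 1 := Subtype.ext h
    rw [h1, orderOf_one] at hy
    exact hp.one_lt.ne hy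
  have hyp : (y : G) ^ p = 1 := by
    rw [← hy]
    exact congrArg Subtype.val (pow_orderOf_eq_one y)
  obtain ⟨V, s, hs, hns⟩ : ∃ V : minSet N, ∃ s ∈ V.1, ¬ Commute (y : G) s := by
    by_contra hcon
    push Not at hcon
    exact hy1 (D.eq_one_of_comm hcon)
  obtain ⟨g, hg⟩ := D.str.trans V T
  have hyN : g * y * g⁻¹ ∈ N := Subgroup.Normal.conj_mem inferInstance _ y.2 g
  obtain ⟨t, ht, hty⟩ := D.mem_map.1 (D.map_of_mem hyN)
  have hne : π ⟨g * y * g⁻¹, le_norm hyN⟩ ≠ 1 := by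
    intro h
    have h1 := (D.ker _).1 h (g * s * g⁻¹) (by
      rw [← hg, Cfsg.Agent.H531.LemX.smul_coe]
      exact ⟨s, hs, rfl⟩)
    have h2 : Commute (g * y * g⁻¹) (g * s * g⁻¹) := h1
    apply hns
    have h3 := h2.map (MulAut.conj g⁻¹).toMonoidHom
    have e1 : (MulAut.conj g⁻¹).toMonoidHom (g * (y : G) * g⁻¹) = y := by
      show g⁻¹ * (g * (y : G) * g⁻¹) * g⁻¹⁻¹ = y
      group
    have e2 : (MulAut.conj g⁻¹).toMonoidHom (g * s * g⁻¹) = s := by
      show g⁻¹ * (g * s * g⁻¹) * g⁻¹⁻¹ = s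
      group
    rwa [e1, e2] at h3
  refine ⟨t, ht, ?_⟩
  rw [← D.orderOf_eq ht, hty]
  refine orderOf_eq_prime ?_ hne
  rw [← map_pow]
  have : (⟨g * y * g⁻¹, le_norm hyN⟩ : ↥(normalizer (T.1 : Set G))) ^ p = 1 := by
    apply Subtype.ext
    show (g * (y : G) * g⁻¹) ^ p = 1
    rw [conj_pow, hyp]
    group
  rw [this, map_one]

/-- **T1b2**: `C_G(P) ≤ N_G(T)` -/
theorem centralizer_le_normalizer (D : Dat N T π) (hcop : ¬ p ∣ N.index) (hdN : p ∣ Nat.card N) (P : Sylow p G) :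
    (P : Subgroup G) ≤ normalizer (T.1 : Set G) ∧
      centralizer ((P : Subgroup G) : Set G) ≤ normalizer (T.1 : Set G) := by
  have hp : p.Prime := Fact.out
  have hPN : (P : Subgroup G) ≤ N := by
    intro x hx
    obtain ⟨k, hk⟩ := P.isPGroup' ⟨x, hx⟩
    exact mem_of_pow hcop (congrArg Subtype.val hk)
  refine ⟨hPN.trans le_norm, ?_⟩
  obtain ⟨t, ht, hto⟩ := exists_order (p := p) D hdN
  -- conjugate `t` into `P`
  obtain ⟨z, hzP, hzT, hz1⟩ : ∃ z ∈ (P : Subgroup G), z ∈ T.1 ∧ z ≠ 1 := by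
    have htN : t ∈ N := T.2.1 ht
    have hpg : IsPGroup p (Subgroup.zpowers (⟨t, htN⟩ : N)) := by
      refine IsPGroup.of_card (n := 1) ?_
      rw [Nat.card_zpowers, pow_one]
      rw [← hto]
      exact Subgroup.orderOf_mk t htN
    obtain ⟨Q, hQ⟩ := hpg.exists_le_sylow
    obtain ⟨n, hn⟩ := MulAction.exists_smul_eq N Q (P.subtype hPN)
    have h1 : (⟨t, htN⟩ : N) ∈ Q := hQ (Subgroup.mem_zpowers _)
    have h2 : n * ⟨t, htN⟩ * n⁻¹ ∈ (n • Q : Sylow p N) := by
      rw [Sylow.smul_def]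
      exact Subgroup.smul_mem_pointwise_smul _ (MulAut.conj n) _ h1
    rw [hn] at h2
    refine ⟨n * t * n⁻¹, h2, ?_, ?_⟩
    · exact (mem_normalizer_iff.1 (le_norm (T := T) n.2) t).1 ht
    · intro h
      have h3 : t = 1 := by
        have h4 : (n : G) * t = n := by rwa [← mul_inv_eq_one]
        exact mul_eq_left.1 h4
      rw [h3, orderOf_one] at hto
      exact hp.one_lt.ne hto
  intro x hx
  rw [← mem_normalizer_iff_smul]
  by_contra hne
  apply hz1
  refine D.str.cen T z hzT fun s hs => ?_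
  refine D.str.comm (x • T) T hne z ?_ s hs
  rw [Cfsg.Agent.H531.LemX.smul_coe]
  refine ⟨z, hzT, ?_⟩
  show x * z * x⁻¹ = z
  rw [mem_centralizer_iff] at hx
  rw [← hx z hzP]
  group

end Cfsg.Agent.H61.S4822
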